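import Groth.Agent.FlatFun4.StalkDesc
import Groth.Agent.FlatFun4.FreeFibre
import Groth.Agent.FDescent.StalkFinite
import Groth.Agent.QCoh.LocFree
import Groth.Agent.LimitsH94.LimQuot
import Groth.Agent.LimitsH94.LimLocFree
import Groth.Agent.ConsPropLib.FibreLocFree
import Groth.Agent.KRRLib.Model
import Groth.Agent.KFlatLib.Perfect.Betti
import Mathlib.RingTheory.LocalRing.Module
import Mathlib.AlgebraicGeometry.ResidueField

/-! Locally split monomorphisms into a finite locally free module, tested on fibres. -/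

set_option autoImplicit false
set_option linter.style.haveILetI false
set_option backward.isDefEq.respectTransparency false
set_option backward.isDefEq.respectTransparency.types false

noncomputable section

universe u

open CategoryTheory CategoryTheory.Limits AlgebraicGeometry TopologicalSpace Opposite TensorProduct IsLocalRing

namespace Groth.Agent.RepF98

open Groth.Agent.FlatFun4

theorem lTensor_residueField_injective {A K M N : Type u} [CommRing A] [IsLocalRing A] [CommRing K]
    [Algebra A K] [IsLocalHom (algebraMap A K)] (hK : IsField K) [AddCommGroup M] [Module A M] [AddCommGroup N]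
    [Module A N] (l : M →ₗ[A] N) (h : Function.Injective (l.lTensor K)) :
    Function.Injective (l.lTensor (ResidueField A)) := by
  letI := hK.toField
  letI : Algebra (ResidueField A) K := (ResidueField.lift (algebraMap A K)).toAlgebra
  haveI : IsScalarTower A (ResidueField A) K :=
    IsScalarTower.of_algebraMap_eq fun a => (ResidueField.lift_residue_apply (algebraMap A K) a).symm
  obtain ⟨r, hr⟩ := LinearMap.exists_leftInverse_of_injective (Algebra.linearMap (ResidueField A) K)
    (LinearMap.ker_eq_bot.2 (FaithfulSMul.algebraMap_injective (ResidueField A) K))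
  let j : ResidueField A →ₗ[A] K := (Algebra.linearMap (ResidueField A) K).restrictScalars A
  have hj : Function.Injective (j.rTensor M) := by
    refine Function.HasLeftInverse.injective ⟨(r.restrictScalars A).rTensor M, fun z => ?_⟩
    rw [← LinearMap.comp_apply, ← LinearMap.rTensor_comp,
      show r.restrictScalars A ∘ₗ j = LinearMap.id from LinearMap.ext fun a => congr($hr a),
      LinearMap.rTensor_id, LinearMap.id_apply]
  intro a b hab
  refine hj (h ?_)
  rw [← LinearMap.comp_apply, ← LinearMap.comp_apply, LinearMap.lTensor_comp_rTensor,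
    ← LinearMap.rTensor_comp_lTensor, LinearMap.comp_apply, LinearMap.comp_apply, hab]

variable {S : Scheme.{u}} {U E : S.Modules} (ι : U ⟶ E)

theorem split_at (hU : CohB1.IsFT U) (hE : FlatMod.IsFinLocFree E) {T : Scheme.{u}} (h : T ⟶ S) (x : T)
    (hx : IsField (T.presheaf.stalk x)) (hm : Mono ((Scheme.Modules.pullback h).map ι)) :
    Function.Injective (st ι (h x)) ∧ FreeAt (cokernel ι) (h x) := by
  letI := (h.stalkMap x).hom.toAlgebra
  haveI : IsLocalHom (algebraMap (S.presheaf.stalk (h x)) (T.presheaf.stalk x)) :=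
    inferInstanceAs (IsLocalHom (h.stalkMap x).hom)
  haveI : Module.Finite (S.presheaf.stalk (h x)) ((DerSch.stalkFunctor S (h x)).obj U) :=
    @FDescent.finite_stalk _ U hU (h x)
  haveI : Module.Free (S.presheaf.stalk (h x)) ((DerSch.stalkFunctor S (h x)).obj E) :=
    QCoh.free_stalk_of_isFinLocFree hE (h x)
  haveI : Module.Finite (S.presheaf.stalk (h x)) ((DerSch.stalkFunctor S (h x)).obj E) :=
    @FDescent.finite_stalk _ E (QCoh.isFT_of_isFP (QCoh.isFP_of_isFinLocFree hE)) (h x)
  have h1 := (injective_pullback_iff h x ι).1 ((Synt29.OmegaStalk.mono_iff_stalk _).1 hm x)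
  rw [LinearMap.baseChange_eq_ltensor] at h1
  have h2 := lTensor_residueField_injective hx (st ι (h x)) h1
  obtain ⟨l, hl⟩ := (IsLocalRing.split_injective_iff_lTensor_residueField_injective (st ι (h x))).2 h2
  refine ⟨Function.HasLeftInverse.injective ⟨l, LinearMap.congr_fun hl⟩, ?_⟩
  let sc := ShortComplex.mk ι (cokernel.π ι) (cokernel.condition ι)
  have hsc : sc.Exact := ShortComplex.exact_of_g_is_cokernel _ (cokernelIsCokernel ι)
  have hex := (KFlatLib.exact_iff_stalk sc).1 hsc (h x)
  rw [ShortComplex.ShortExact.moduleCat_exact_iff_function_exact] at hex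
  have hsurj : Function.Surjective (st (cokernel.π ι) (h x)) :=
    (Synt29.OmegaStalk.epi_iff_stalk _).1 inferInstance (h x)
  exact Module.free_of_lTensor_residueField_injective (f := st ι (h x)) (g := st (cokernel.π ι) (h x))
    hsurj hex h2

theorem isFinLocFree_cokernel (hU : CohB1.IsFT U) (hE : FlatMod.IsFinLocFree E)
    (hfree : ∀ s, FreeAt (cokernel ι) s) : FlatMod.IsFinLocFree (cokernel ι) := by
  obtain ⟨σ, hσ⟩ := hU.exists_localGeneratorsData
  let J := {p : S.affineOpens × σ.I // (p.1.1 : S.Opens) ≤ σ.X p.2}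
  refine ConsPropLib.isFinLocFree_of_cover (fun j : J => j.1.1.2.fromSpec) (fun s => ?_) fun j => ?_
  · obtain ⟨i, hi⟩ := ((Opens.coversTop_iff _ σ.X).1 σ.coversTop).exists_mem s
    obtain ⟨_, ⟨D, hD, rfl⟩, hsD, hle⟩ := S.isBasis_affineOpens.exists_subset_of_mem_open hi (σ.X i).2
    exact ⟨⟨(⟨D, hD⟩, i), hle⟩, (IsAffineOpen.range_fromSpec hD).ge hsD⟩
  · obtain ⟨⟨⟨D, hD⟩, i⟩, hi⟩ := j
    have := hσ.isFiniteType i
    have : PreservesColimitsOfSize.{u, u}
      (Scheme.Modules.restrictFunctor (hD.isoSpec.inv ≫ S.homOfLE hi)) := inferInstance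
    let F := (Scheme.Modules.overEquiv (σ.X i)).functor ⋙
      Scheme.Modules.restrictFunctor (hD.isoSpec.inv ≫ S.homOfLE hi)
    have : PreservesColimitsOfSize.{u, u} F :=
      Limits.comp_preservesColimits (Scheme.Modules.overEquiv (σ.X i)).functor _
    let g := ((σ.generators i).map F (Scheme.Modules.restrictUnitIso _).symm).ofEpi
      ((QCoh.overChartIso hD hi).app U).hom
    haveI : Finite g.I := inferInstanceAs (Finite (σ.generators i).I)
    let R := Scheme.Modules.restrictFunctor hD.fromSpec
    let G : (Spec Γ(S, D)).Modules := tilde (ModuleCat.of Γ(S, D) (g.I →₀ Γ(S, D)))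
    let p : G ⟶ R.obj U := (tildeFinsupp g.I).hom ≫ g.π
    haveI : Epi g.π := g.epi
    haveI : Epi p := epi_comp _ _
    have hG : FlatMod.IsFinLocFree G := (QCoh.isFinLocFree_tilde_iff _).2 ⟨inferInstance, inferInstance⟩
    have hE' : FlatMod.IsFinLocFree (R.obj E) := LimitsH94.LM.isFinLocFree_of_iso
      ((Scheme.Modules.restrictFunctorIsoPullback hD.fromSpec).app E).symm
      (KFlatLib.isFinLocFree_pullback _ hE)
    have hfp : CohB1.IsFP (R.obj (cokernel ι)) := by
      let e : cokernel (p ≫ R.map ι) ≅ R.obj (cokernel ι) :=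
        cokernelEpiComp p (R.map ι) ≪≫ (PreservesCokernel.iso R ι).symm
      have := LimitsH94.isFP_cokernel (QCoh.isQCoh_of_isFinLocFree hG)
        (QCoh.isFT_of_isFP (QCoh.isFP_of_isFinLocFree hG)) (QCoh.isQCoh_of_isFinLocFree hE')
        (QCoh.isFP_of_isFinLocFree hE') (p ≫ R.map ι)
      exact (SheafOfModules.isFinitePresentation.{u} _).prop_of_iso e this
    exact QCoh.isFinLocFree_iff.2 ⟨hfp, fun y => freeAt_of_iso
      ((Scheme.Modules.restrictFunctorIsoPullback hD.fromSpec).app (cokernel ι)).symm y
      (freeAt_pullback hD.fromSpec y (hfree _))⟩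

theorem mono_and_isFinLocFree_cokernel_iff (hU : CohB1.IsFT U) (hE : FlatMod.IsFinLocFree E) :
    ((Mono ι ∧ FlatMod.IsFinLocFree (cokernel ι)) ↔
        ∀ (T : Scheme.{u}) (f : T ⟶ S), Mono ((Scheme.Modules.pullback f).map ι)) ∧
      ((∀ (T : Scheme.{u}) (f : T ⟶ S), Mono ((Scheme.Modules.pullback f).map ι)) ↔
        ∀ s : S, Mono ((Scheme.Modules.pullback (S.fromSpecResidueField s)).map ι)) := by
  have h12 : Mono ι ∧ FlatMod.IsFinLocFree (cokernel ι) →
      ∀ (T : Scheme.{u}) (f : T ⟶ S), Mono ((Scheme.Modules.pullback f).map ι) := by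
    rintro ⟨hm, hc⟩ T f
    let sc := ShortComplex.mk ι (cokernel.π ι) (cokernel.condition ι)
    have hs : sc.ShortExact := ShortComplex.ShortExact.mk'
      (ShortComplex.exact_of_g_is_cokernel _ (cokernelIsCokernel ι)) hm inferInstance
    exact (KRRLib.shortExact_pullback f hs hc).mono_f
  have h31 : (∀ s : S, Mono ((Scheme.Modules.pullback (S.fromSpecResidueField s)).map ι)) →
      Mono ι ∧ FlatMod.IsFinLocFree (cokernel ι) := by
    intro h
    have key : ∀ s : S, Function.Injective (st ι s) ∧ FreeAt (cokernel ι) s := fun s => by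
      obtain ⟨x⟩ : Nonempty (Spec (S.residueField s)) := inferInstance
      have := split_at ι hU hE (S.fromSpecResidueField s) x
        (KFlatLib.isField_stalk_spec _ x) (h s)
      rwa [Scheme.fromSpecResidueField_apply] at this
    exact ⟨(Synt29.OmegaStalk.mono_iff_stalk ι).2 fun s => (key s).1,
      isFinLocFree_cokernel ι hU hE fun s => (key s).2⟩
  exact ⟨⟨h12, fun h => h31 fun s => h _ _⟩, ⟨fun h s => h _ _, fun h => h12 (h31 h)⟩⟩

end Groth.Agent.RepF98
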