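import Groth.Agent.QCoh.LocFree
import Groth.Agent.QCoh.PullbackBC
import Groth.Agent.QCoh.Support
import Groth.Agent.MorLib.ProjSections
import Groth.Agent.FComplLib.AffMod
import Groth.Agent.H28.ClosedSub
import Groth.Agent.FlatFun4.StalkDesc
import Mathlib.LinearAlgebra.Dual.Defs

/-! The closed subscheme of zeros of a map into a finite locally free module. -/

set_option autoImplicit false
set_option linter.style.haveILetI false
set_option backward.isDefEq.respectTransparency false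
set_option backward.isDefEq.respectTransparency.types false

noncomputable section

universe u

open CategoryTheory CategoryTheory.Limits AlgebraicGeometry TopologicalSpace Opposite TensorProduct

namespace Groth.Agent.RepF98

variable {S : Scheme.{u}} {E F : S.Modules} (v : E ⟶ F)

theorem projective_sections (hF : FlatMod.IsFinLocFree F) {U : S.Opens} (hU : IsAffineOpen U) :
    Module.Projective Γ(S, U) Γ(F, U) := by
  choose V hx hV hp using fun x : S => show ∃ (V : S.Opens), x ∈ V ∧ IsAffineOpen V ∧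
      Module.Projective Γ(S, V) Γ(F, V) from by
    obtain ⟨W, n, hxW, ⟨e⟩⟩ := hF x
    obtain ⟨_, ⟨V, hV, rfl⟩, hxV, hle⟩ := S.isBasis_affineOpens.exists_subset_of_mem_open hxW W.2
    obtain ⟨l⟩ := QCoh.free_sections hV hle e
    exact ⟨V, hxV, hV, Module.Projective.of_equiv l.symm⟩
  exact MorLib.projective_sections_of_cover (QCoh.isQCoh_of_isFinLocFree hF) V
    (top_le_iff.1 fun x _ => Opens.mem_iSup.2 ⟨x, hx x⟩) hV hp hU

variable {T : Scheme.{u}} (f : T ⟶ S) {V : S.Opens} {W : T.Opens} (hle : W ≤ f ⁻¹ᵁ V)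

theorem pullSec_natural (x : Γ(E, V)) :
    ((Scheme.Modules.pullback f).map v).app W (QCoh.pullSec f E hle x) =
      QCoh.pullSec f F hle (v.app V x) := by
  let adj := Scheme.Modules.pullbackPushforwardAdjunction f
  let w := (Scheme.Modules.pullback f).map v
  let y : Γ((Scheme.Modules.pullback f).obj E, f ⁻¹ᵁ V) := (adj.unit.app E).app V x
  have h1 : w.app (f ⁻¹ᵁ V) y =
      (show Γ((Scheme.Modules.pullback f).obj F, f ⁻¹ᵁ V) from (adj.unit.app F).app V (v.app V x)) :=
    (congrArg (fun φ => Scheme.Modules.Hom.app φ V x) (adj.unit.naturality v)).symm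
  have h2 := congr($((Scheme.Modules.Hom.mapPresheaf w).naturality (homOfLE hle).op) y)
  exact h2.trans (congrArg (((Scheme.Modules.pullback f).obj F).presheaf.map (homOfLE hle).op) h1)

/-- The ideal of zeros of `v` on an open. -/
def zeroIdeal (U : S.Opens) : Ideal Γ(S, U) :=
  Ideal.span {a | ∃ (d : Γ(F, U) →ₗ[Γ(S, U)] Γ(S, U)) (e : Γ(E, U)), d (v.app U e) = a}

theorem appLE_fromSpec_ker {U : S.Opens} (hU : IsAffineOpen U) {R : CommRingCat.{u}}
    (q : Γ(S, U) ⟶ R) (e : ⊤ ≤ (Spec.map q ≫ hU.fromSpec) ⁻¹ᵁ U) :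
    RingHom.ker ((Spec.map q ≫ hU.fromSpec).appLE U ⊤ e).hom = RingHom.ker q.hom := by
  have h : (Spec.map q ≫ hU.fromSpec).appLE U ⊤ e = q ≫ (Scheme.ΓSpecIso R).inv := by
    rw [Scheme.Hom.comp_appLE, hU.fromSpec_app_self, Category.assoc, Scheme.Hom.map_appLE,
      Scheme.ΓSpecIso_inv_naturality]
    congr 1
  ext r
  rw [RingHom.mem_ker, RingHom.mem_ker, h]
  show (Scheme.ΓSpecIso R).inv (q r) = 0 ↔ _
  exact ⟨fun h0 => (ConcreteCategory.bijective_of_isIso (Scheme.ΓSpecIso R).inv).1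
    (h0.trans (map_zero _).symm), fun h0 => by rw [h0]; exact map_zero _⟩

include hle in
theorem pullSec_eq_zero_iff (hV : IsAffineOpen V) (hW : IsAffineOpen W) (hF : FlatMod.IsFinLocFree F)
    (x : Γ(F, V)) : QCoh.pullSec f F hle x = 0 ↔
      ∀ d : Γ(F, V) →ₗ[Γ(S, V)] Γ(S, V), f.appLE V W hle (d x) = 0 := by
  let N := (Scheme.Modules.pullback f).obj F
  letI : Algebra Γ(S, V) Γ(T, W) := (f.appLE V W hle).hom.toAlgebra
  letI : Module Γ(S, V) Γ(N, W) := Module.compHom _ (f.appLE V W hle).hom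
  haveI : IsScalarTower Γ(S, V) Γ(T, W) Γ(N, W) :=
    ⟨fun a b c => mul_smul ((f.appLE V W hle).hom a) b c⟩
  let l : Γ(F, V) →ₗ[Γ(S, V)] Γ(N, W) :=
    { toFun := QCoh.pullSec f F hle
      map_add' := QCoh.pullSec_add f F hle
      map_smul' := QCoh.pullSec_smul f F hle }
  have hbc : IsBaseChange Γ(T, W) l :=
    QCoh.isBaseChange_pullback hV f hW (QCoh.isQCoh_of_isFinLocFree hF) hle (fun r => rfl) l fun x => rfl
  constructor
  · intro h d
    have := hbc.lift_eq ((Algebra.linearMap Γ(S, V) Γ(T, W)) ∘ₗ d) x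
    rw [show l x = 0 from h, map_zero] at this
    exact this.symm
  · intro h
    haveI := projective_sections hF hV
    obtain ⟨s, hs⟩ := Module.projective_def.1 (inferInstance : Module.Projective Γ(S, V) Γ(F, V))
    show l x = 0
    rw [← hs x, Finsupp.linearCombination_apply, map_finsuppSum]
    refine Finset.sum_eq_zero fun i _ => ?_
    show l ((s x) i • id i) = 0
    rw [l.map_smul]
    exact (congrArg (· • l (id i)) (h ((Finsupp.lapply i) ∘ₗ s))).trans (zero_smul Γ(T, W) _)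

theorem pullback_map_eq_zero_iff (hE : Coh.IsQCoh E) (hF : FlatMod.IsFinLocFree F) {U : S.Opens}
    (hU : IsAffineOpen U) {R : CommRingCat.{u}} (q : Γ(S, U) ⟶ R) :
    (Scheme.Modules.pullback (Spec.map q ≫ hU.fromSpec)).map v = 0 ↔
      zeroIdeal v U ≤ RingHom.ker q.hom := by
  let φ := Spec.map q ≫ hU.fromSpec
  have hle : ⊤ ≤ φ ⁻¹ᵁ U := fun z _ => hU.range_fromSpec.le ⟨Spec.map q z, rfl⟩
  have hW : IsAffineOpen (⊤ : (Spec R).Opens) := isAffineOpen_top _
  rw [← appLE_fromSpec_ker hU q hle, zeroIdeal, Ideal.span_le]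
  constructor
  · rintro h a ⟨d, e, rfl⟩
    refine (pullSec_eq_zero_iff φ hle hU hW hF (v.app U e)).1 ?_ d
    rw [← pullSec_natural v φ hle e, h]
    rfl
  · intro h
    have h0 : ∀ e : Γ(E, U), QCoh.pullSec φ F hle (v.app U e) = 0 := fun e =>
      (pullSec_eq_zero_iff φ hle hU hW hF (v.app U e)).2 fun d => h ⟨d, e, rfl⟩
    refine FComplLib.hom_ext_top (QCoh.isQCoh_pullback φ hE)
      (QCoh.isQCoh_pullback φ (QCoh.isQCoh_of_isFinLocFree hF)) _ _ fun z => ?_
    let M := (Scheme.Modules.pullback φ).obj E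
    letI : Algebra Γ(S, U) Γ(Spec R, ⊤) := (φ.appLE U ⊤ hle).hom.toAlgebra
    letI : Module Γ(S, U) Γ(M, ⊤) := Module.compHom _ (φ.appLE U ⊤ hle).hom
    haveI : IsScalarTower Γ(S, U) Γ(Spec R, ⊤) Γ(M, ⊤) :=
      ⟨fun a b c => mul_smul ((φ.appLE U ⊤ hle).hom a) b c⟩
    let l : Γ(E, U) →ₗ[Γ(S, U)] Γ(M, ⊤) :=
      { toFun := QCoh.pullSec φ E hle
        map_add' := QCoh.pullSec_add φ E hle
        map_smul' := QCoh.pullSec_smul φ E hle }
    have hbc : IsBaseChange Γ(Spec R, ⊤) l :=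
      QCoh.isBaseChange_pullback hU φ hW hE hle (fun r => rfl) l fun x => rfl
    induction z using hbc.inductionOn with
    | zero => rw [map_zero, map_zero]
    | tmul m => exact (pullSec_natural v φ hle m).trans (h0 m)
    | smul c n hn => rw [Scheme.Modules.Hom.app_smul, Scheme.Modules.Hom.app_smul, hn]
    | add a b ha hb => rw [map_add, map_add, ha, hb]

/-- The closed subscheme of zeros of `v`. -/
theorem exists_zeroScheme (hE : Coh.IsQCoh E) (hF : FlatMod.IsFinLocFree F) :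
    ∃ I : S.IdealSheafData, ∀ (T : Scheme.{u}) (f : T ⟶ S),
      (∃ g : T ⟶ I.subscheme, g ≫ I.subschemeι = f) ↔ (Scheme.Modules.pullback f).map v = 0 := by
  have hcomp : ∀ {T T' : Scheme.{u}} (w : T' ⟶ T) (x : T ⟶ S),
      (Scheme.Modules.pullback x).map v = 0 → (Scheme.Modules.pullback (w ≫ x)).map v = 0 := by
    intro T T' w x hx
    have := (Scheme.Modules.pullbackComp w x).hom.naturality v
    rw [← cancel_epi ((Scheme.Modules.pullbackComp w x).hom.app E), ← this]
    simp [hx]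
  have hloc : ∀ {T : Scheme.{u}} (x : T ⟶ S) (𝒱 : Scheme.OpenCover.{u} T),
      (∀ j, (Scheme.Modules.pullback (𝒱.f j ≫ x)).map v = 0) → (Scheme.Modules.pullback x).map v = 0 := by
    intro T x 𝒱 hx
    refine FlatFun4.eq_zero_of_family ((Scheme.Modules.pullback x).map v) (fun j => 𝒱.f j)
      (fun t => ⟨𝒱.idx t, 𝒱.covers t⟩) fun j => ?_
    have := (Scheme.Modules.pullbackComp (𝒱.f j) x).hom.naturality v
    rw [hx j, comp_zero] at this
    exact (cancel_mono ((Scheme.Modules.pullbackComp (𝒱.f j) x).hom.app F)).1 (this.trans zero_comp.symm)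
  obtain ⟨Z, i, hi, h⟩ := H28.ClosedSub.exists_closed
    (fun {T} f => (Scheme.Modules.pullback f).map v = 0) hcomp hloc
    (fun U => ⟨zeroIdeal v U.1, fun R q => pullback_map_eq_zero_iff v hE hF U.2 q⟩)
  refine ⟨i.ker, fun T f => ?_⟩
  rw [h f]
  constructor
  · rintro ⟨g, hg⟩
    refine ⟨g ≫ inv i.toImage, ?_⟩
    have : inv i.toImage ≫ i = i.ker.subschemeι := (IsIso.inv_comp_eq _).2 i.toImage_imageι.symm
    rw [Category.assoc]
    exact (congrArg (g ≫ ·) this).trans hg
  · rintro ⟨z, hz⟩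
    exact ⟨z ≫ i.toImage, by rw [Category.assoc]; exact (congrArg (z ≫ ·) i.toImage_imageι).trans hz⟩

end Groth.Agent.RepF98
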